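import Cfsg.Agent.H569.HNThree
import Cfsg.Agent.H845.HNNineteen

/-!
# `HN`: no elements of order 18; the prime 19 is isolated (helper998)
-/

set_option autoImplicit false

namespace Cfsg.Agent.H998.SpHN

open Cfsg Subgroup

universe u

theorem hn_18' : ¬ ∃ x : Cfsg.Spor.HN, orderOf x = 18 := by
  rintro ⟨x, hx⟩
  have ht : orderOf (x ^ 9) = 2 := by rw [orderOf_pow_of_dvd (by norm_num) (by rw [hx]; norm_num), hx]
  have hy : orderOf (x ^ 2) = 9 := by rw [orderOf_pow_of_dvd (by norm_num) (by rw [hx]; norm_num), hx]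
  have hyp : H749.PEl 3 (x ^ 2) := ⟨2, by rw [show 3 ^ 2 = orderOf (x ^ 2) by rw [hy]; norm_num, pow_orderOf_eq_one]⟩
  have h1 : (x ^ 2) ^ 3 = 1 := Cfsg.Agent.H569.HNThree.exp_three hyp ht (by rw [← pow_add, ← pow_add, add_comm])
  have h2 := orderOf_dvd_of_pow_eq_one h1
  rw [hy] at h2
  norm_num at h2

/-- `HN` has no elements of order 18. -/
theorem hn_18 {X : Type u} [Group X] (h : Cfsg.Spor.IsoHN X) : ¬ ∃ x : X, orderOf x = 18 := by
  obtain ⟨e⟩ := h
  rintro ⟨x, hx⟩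
  exact hn_18' ⟨e x, by rw [MulEquiv.orderOf_eq, hx]⟩

theorem hn_cent19 {x : Cfsg.Spor.HN} (hx : orderOf x = 19) :
    Nat.card (Subgroup.centralizer ({x} : Set Cfsg.Spor.HN)) = 19 := by
  have hfin := Cfsg.Agent.H845.HNNineteen.finite_HN
  obtain ⟨z, hz, hcz⟩ := Cfsg.Agent.H845.HNNineteen.hn_nineteen
  have hc : Nat.card Cfsg.Spor.HN = 273030912000000 := Cfsg.Agent.KFacts.HN.Classes.card_HN
  obtain ⟨g, hg⟩ := Cfsg.Agent.H845.HNNineteen.exists_conj_mem (r := 19) (by norm_num) (by rw [hc]; norm_num) hz hx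
  -- `z` and `g x g⁻¹` generate the same group
  have ho : orderOf (g * x * g⁻¹) = 19 := by
    have := orderOf_injective (MulAut.conj g).toMonoidHom (MulAut.conj g).injective x
    rw [← hx]
    simpa using this
  have hzp : zpowers (g * x * g⁻¹) = zpowers z := by
    refine Subgroup.eq_of_le_of_card_ge (zpowers_le.2 hg) ?_
    rw [Nat.card_zpowers, Nat.card_zpowers, ho, hz]
  have h1 : centralizer ({g * x * g⁻¹} : Set Cfsg.Spor.HN) = centralizer ({z} : Set Cfsg.Spor.HN) := by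
    have e : ∀ y : Cfsg.Spor.HN, centralizer ({y} : Set Cfsg.Spor.HN) = centralizer ((zpowers y : Subgroup _) : Set _) := by
      intro y
      rw [zpowers_eq_closure, Subgroup.centralizer_closure]
    rw [e, e, hzp]
  have h2 : Nat.card (centralizer ({x} : Set Cfsg.Spor.HN)) =
      Nat.card (centralizer ({g * x * g⁻¹} : Set Cfsg.Spor.HN)) := by
    refine Nat.card_congr ⟨fun c => ⟨g * c * g⁻¹, ?_⟩, fun c => ⟨g⁻¹ * c * g, ?_⟩, ?_, ?_⟩
    · rw [mem_centralizer_singleton_iff]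
      have h := mem_centralizer_singleton_iff.1 c.2
      calc g * c * g⁻¹ * (g * x * g⁻¹) = g * (c * x) * g⁻¹ := by group
        _ = g * (x * c) * g⁻¹ := by rw [h]
        _ = _ := by group
    · rw [mem_centralizer_singleton_iff]
      have h := mem_centralizer_singleton_iff.1 c.2
      calc g⁻¹ * c * g * x = g⁻¹ * (c * (g * x * g⁻¹)) * g := by group
        _ = g⁻¹ * (g * x * g⁻¹ * c) * g := by rw [h]
        _ = _ := by group
    · intro c
      apply Subtype.ext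
      simp [mul_assoc]
    · intro c
      apply Subtype.ext
      simp [mul_assoc]
  rw [h2, h1, hcz]

/-- The prime 19 is an isolated vertex of the prime graph of `HN`. -/
theorem hn_iso19 {X : Type u} [Group X] (h : Cfsg.Spor.IsoHN X) {t : ℕ} (ht : 0 < t) (ht19 : t ≠ 1)
    (hc : Nat.Coprime 19 t) : ¬ ∃ x : X, orderOf x = 19 * t := by
  obtain ⟨e⟩ := h
  rintro ⟨y, hy⟩
  obtain ⟨x, hx⟩ : ∃ x : Cfsg.Spor.HN, orderOf x = 19 * t := ⟨e y, by rw [MulEquiv.orderOf_eq, hy]⟩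
  have h1 : orderOf (x ^ t) = 19 := by
    rw [orderOf_pow_of_dvd ht.ne' (by rw [hx]; exact Dvd.intro_left _ rfl), hx, Nat.mul_div_cancel _ ht]
  have h2 : orderOf (x ^ 19) = t := by
    rw [orderOf_pow_of_dvd (by norm_num) (by rw [hx]; exact Dvd.intro _ rfl), hx, Nat.mul_div_cancel_left _ (by norm_num)]
  have h3 : x ^ 19 ∈ centralizer ({x ^ t} : Set Cfsg.Spor.HN) := by
    rw [mem_centralizer_singleton_iff, ← pow_add, ← pow_add, add_comm]
  have h4 := orderOf_dvd_natCard (⟨x ^ 19, h3⟩ : centralizer ({x ^ t} : Set Cfsg.Spor.HN))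
  rw [Subgroup.orderOf_mk, h2, hn_cent19 h1] at h4
  exact ht19 (Nat.dvd_one.1 (by
    have := Nat.dvd_gcd h4 dvd_rfl
    rwa [hc] at this))

/-- prime version -/
theorem hn_iso19_prime {X : Type u} [Group X] (h : Cfsg.Spor.IsoHN X) {t : ℕ} (ht : t.Prime) (ht19 : t ≠ 19) :
    ¬ ∃ x : X, orderOf x = 19 * t :=
  hn_iso19 h ht.pos ht.one_lt.ne' ((Nat.coprime_primes (by norm_num) ht).2 (Ne.symm ht19))

end Cfsg.Agent.H998.SpHN
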