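import Cfsg.Agent.HN.A12Group
import Cfsg.Agent.HN.AutHS
import Cfsg.Agent.H604.Sax.McLEl
import Cfsg.Agent.H729.M22Deg
import Cfsg.Agent.H61.SpAltFb
import Cfsg.Agent.H998.SpAlt.AltSpec

/-!
# Small facts for S3666 (helper998)

Elements of order 4 in `HN`, 9 in `McL`, 15 in `HS`; no element of order 15 in `M22`; the group `3² : 8` in `M11`.
-/

set_option autoImplicit false
set_option maxRecDepth 100000

namespace Cfsg.Agent.H998.SpSmallF

open Cfsg Subgroup

universe u v

theorem ord_congr {X : Type u} {Y : Type v} [Group X] [Group Y] (e : X ≃* Y) {m : ℕ} (h : ∃ y : Y, orderOf y = m) :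
    ∃ x : X, orderOf x = m := by
  obtain ⟨y, hy⟩ := h
  exact ⟨e.symm y, by rw [MulEquiv.orderOf_eq, hy]⟩

/-! ### `HN` -/

theorem hn_four' [IsSimpleGroup Cfsg.Spor.HN] : ∃ x : Cfsg.Spor.HN, orderOf x = 4 := by
  obtain ⟨K, ⟨e⟩⟩ := Cfsg.Agent.HN.A12Group.exists_alternating
  obtain ⟨a, ha⟩ := Cfsg.Agent.H998.SpAlt.alt_has (n := 12) {4, 2} (by decide) (by decide) (by decide)
  refine ⟨(e.symm a : Cfsg.Spor.HN), ?_⟩
  rw [Subgroup.orderOf_coe, MulEquiv.orderOf_eq, ha]
  rfl

/-- `HN` has elements of order four. -/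
theorem hn_four {X : Type u} [Group X] [IsSimpleGroup X] (h : Cfsg.Spor.IsoHN X) : ∃ x : X, orderOf x = 4 := by
  obtain ⟨e⟩ := h
  have : IsSimpleGroup Cfsg.Spor.HN := MulEquiv.isSimpleGroup e.symm
  exact ord_congr e hn_four'

/-! ### `McL` -/

/-- `McL` has elements of order nine. -/
theorem mcl_nine {X : Type u} [Group X] (h : Cfsg.Spor.IsoMcL X) : ∃ x : X, orderOf x = 9 := by
  obtain ⟨e⟩ := h
  exact ord_congr e Cfsg.Agent.H604.Sax.McLEl.exists_nine_mcl

/-! ### `HS` -/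

section HS

open Cfsg.Agent.SporadicA.PermTab Cfsg.Agent.HN.HS100 Equiv

/-- the word -/
def wd : List ℕ := [tX, tY, tY, tY, tY, tW, tY, tW]

/-- `ev wd` iterated `k` times -/
def it (k i : ℕ) : ℕ := (ev wd)^[k] i

theorem c15 : allB (fun i => Nat.beq (it 15 i) i) 100 = true := by decide +kernel
theorem c5 : allB (fun i => Nat.beq (it 5 i) i) 100 = false := by decide +kernel
theorem c3 : allB (fun i => Nat.beq (it 3 i) i) 100 = false := by decide +kernel

theorem exists_fifteen : ∃ g : Cfsg.Spor.HS, orderOf g = 15 := by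
  obtain ⟨⟨e⟩, -⟩ := Cfsg.Agent.HN.AutHS.nonempty_Q
  obtain ⟨g, hg, hgi⟩ := exists_ev (G := Q) wd (by
    intro P hP
    simp only [wd, List.mem_cons, List.not_mem_nil, or_false] at hP
    rcases hP with rfl | rfl | rfl | rfl | rfl | rfl | rfl | rfl
    · exact inX
    · exact inY
    · exact inY
    · exact inY
    · exact inY
    · exact inW
    · exact inY
    · exact inW)
  have hpow : ∀ (k : ℕ) (i : Fin 100), ((g ^ k) i : ℕ) = it k i := by
    intro k
    induction k with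
    | zero => intro i; rfl
    | succ k ih =>
      intro i
      rw [pow_succ', Perm.mul_apply, hgi, ih]
      unfold it
      rw [Function.iterate_succ_apply']
  have h15 : g ^ 15 = 1 := by
    refine Equiv.ext fun i => Fin.ext ?_
    rw [hpow]
    exact Nat.eq_of_beq_eq_true ((allB_iff _ _).1 c15 i i.2)
  have hne : ∀ k, allB (fun i => Nat.beq (it k i) i) 100 = false → g ^ k ≠ 1 := by
    intro k hk h1
    have h2 : allB (fun i => Nat.beq (it k i) i) 100 = true := by
      rw [allB_iff]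
      intro i hi
      have := hpow k ⟨i, hi⟩
      rw [h1] at this
      rw [← this]
      exact Nat.beq_refl i
    rw [hk] at h2
    exact absurd h2 (by decide)
  have hord : orderOf g = 15 := by
    refine orderOf_eq_of_pow_and_pow_div_prime (by norm_num) h15 ?_
    intro p hp hp15
    have h1 : p = 3 ∨ p = 5 := by
      have h2 : p ∣ 3 * 5 := by simpa using hp15
      rcases hp.dvd_mul.1 h2 with h3 | h3
      · exact Or.inl ((Nat.prime_dvd_prime_iff_eq hp (by norm_num)).1 h3)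
      · exact Or.inr ((Nat.prime_dvd_prime_iff_eq hp (by norm_num)).1 h3)
    rcases h1 with rfl | rfl
    · exact hne 5 c5
    · exact hne 3 c3
  refine ⟨e ⟨g, hg⟩, ?_⟩
  rw [MulEquiv.orderOf_eq, Subgroup.orderOf_mk, hord]

/-- `HS` has elements of order fifteen. -/
theorem hs_fifteen {X : Type u} [Group X] (h : Cfsg.Spor.IsoHS X) : ∃ x : X, orderOf x = 15 := by
  obtain ⟨e⟩ := h
  exact ord_congr e exists_fifteen

end HS

/-! ### `3² : 8` in `M11` -/

/-- a Frobenius group with kernel a `q`-group and complement cyclic of order `e` (as `H385.Sp.Frb`) -/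
def Frb' (X : Type*) [Group X] (q e : ℕ) : Prop :=
  ∃ (A : Subgroup X) (x : X), IsPGroup q ↥A ∧ A ≠ ⊥ ∧ orderOf x = e ∧ (∀ a ∈ A, x * a * x⁻¹ ∈ A) ∧
    ∀ i, 0 < i → i < e → ∀ a ∈ A, a * x ^ i = x ^ i * a → a = 1

theorem frb_nine {X : Type*} [Group X] {a b x : X} (ha : a ^ 3 = 1) (ha1 : a ≠ 1) (hxa : x * a * x⁻¹ = b)
    (hab : a * b = b * a) (hxb : x * b * x⁻¹ = a * b) (hx : x ^ 8 = 1) : Frb' X 3 8 := by
  have hc : Commute a b := hab
  have hb : b ^ 3 = 1 := by rw [← hxa, conj_pow, ha, mul_one, mul_inv_cancel]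
  -- the elements of `A`
  let A : Subgroup X :=
    { carrier := {g | ∃ i j : ℕ, g = a ^ i * b ^ j}
      one_mem' := ⟨0, 0, by simp⟩
      mul_mem' := by
        rintro _ _ ⟨i, j, rfl⟩ ⟨k, l, rfl⟩
        refine ⟨i + k, j + l, ?_⟩
        rw [pow_add, pow_add, mul_assoc, mul_assoc, ← mul_assoc (b ^ j), ← mul_assoc (a ^ k),
          ← (hc.pow_pow k j).eq]
      inv_mem' := by
        rintro _ ⟨i, j, rfl⟩
        refine ⟨2 * i, 2 * j, ?_⟩
        rw [inv_eq_iff_mul_eq_one, mul_assoc, ← mul_assoc (b ^ j), ← (hc.pow_pow (2 * i) j).eq, mul_assoc,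
          ← mul_assoc, ← pow_add, ← pow_add, show i + 2 * i = 3 * i by ring, show j + 2 * j = 3 * j by ring,
          pow_mul, pow_mul, ha, hb, one_pow, one_pow, one_mul] }
  have hmem : ∀ g, g ∈ A ↔ ∃ i j : ℕ, g = a ^ i * b ^ j := fun _ => Iff.rfl
  have haA : a ∈ A := (hmem _).2 ⟨1, 0, by simp⟩
  have hcj : ∀ i j : ℕ, x * (a ^ i * b ^ j) * x⁻¹ = a ^ j * b ^ (i + j) := by
    intro i j
    have h1 : x * (a ^ i * b ^ j) * x⁻¹ = (x * a * x⁻¹) ^ i * (x * b * x⁻¹) ^ j := by
      rw [conj_pow, conj_pow]; group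
    rw [h1, hxa, hxb, hc.mul_pow, pow_add, ← mul_assoc, ← mul_assoc, (hc.pow_pow j i).eq]
  have hA3 : ∀ g ∈ A, g ^ 3 = 1 := by
    rintro g hg
    obtain ⟨i, j, rfl⟩ := (hmem _).1 hg
    rw [(hc.pow_pow i j).mul_pow, ← pow_mul, ← pow_mul, mul_comm i, mul_comm j, pow_mul, pow_mul, ha, hb, one_pow,
      one_pow, mul_one]
  have hinv : ∀ g ∈ A, x ^ 4 * g * (x ^ 4)⁻¹ = g ^ 2 := by
    rintro g hg
    obtain ⟨i, j, rfl⟩ := (hmem _).1 hg
    have h1 : x ^ 4 * (a ^ i * b ^ j) * (x ^ 4)⁻¹ = x * (x * (x * (x * (a ^ i * b ^ j) * x⁻¹) * x⁻¹) * x⁻¹) * x⁻¹ := by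
      generalize a ^ i * b ^ j = c
      simp only [pow_succ, pow_zero, one_mul, mul_inv_rev, mul_assoc]
    rw [h1, hcj, hcj, hcj, hcj, (hc.pow_pow i j).mul_pow, ← pow_mul, ← pow_mul]
    have q1 : i + j + (j + (i + j)) = i * 2 + 3 * j := by ring
    have q2 : j + (i + j) + (i * 2 + 3 * j) = j * 2 + 3 * (i + j) := by ring
    rw [q1, q2, pow_add a, pow_add b (j * 2),
      pow_mul a 3, pow_mul b 3, ha, hb, one_pow, one_pow, mul_one, mul_one]
  have hx4 : x ^ 4 ≠ 1 := by
    intro h4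
    have h5 := hinv a haA
    rw [h4, one_mul, inv_one, mul_one] at h5
    apply ha1
    have h6 : a * 1 = a * a := by rw [mul_one, ← pow_two]; exact h5
    exact (mul_left_cancel h6).symm
  have hox : orderOf x = 8 := by
    have : Fact (Nat.Prime 2) := ⟨Nat.prime_two⟩
    exact orderOf_eq_prime_pow (p := 2) (n := 2) (by simpa using hx4) (by simpa using hx)
  refine ⟨A, x, ?_, ?_, hox, ?_, ?_⟩
  · intro g
    refine ⟨1, ?_⟩
    rw [pow_one]
    exact Subtype.ext (hA3 g g.2)
  · intro h0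
    exact ha1 (by simpa [h0] using haA)
  · intro g hg
    obtain ⟨i, j, rfl⟩ := (hmem _).1 hg
    rw [hcj]
    exact (hmem _).2 ⟨_, _, rfl⟩
  · intro i hi hi8 g hg hcom
    have hk : ∃ k : ℕ, x ^ (i * k) = x ^ 4 := by
      have h8 : ∀ n : ℕ, x ^ (8 * n + 4) = x ^ 4 := fun n => by rw [pow_add, pow_mul, hx, one_pow, one_mul]
      interval_cases i
      · exact ⟨4, h8 0⟩
      · exact ⟨2, h8 0⟩
      · exact ⟨4, h8 1⟩
      · exact ⟨1, h8 0⟩
      · exact ⟨4, h8 2⟩
      · exact ⟨2, h8 1⟩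
      · exact ⟨4, h8 3⟩
    obtain ⟨k, hk⟩ := hk
    have h1 : Commute g (x ^ 4) := by
      rw [← hk, pow_mul]
      exact (show Commute g (x ^ i) from hcom).pow_right k
    have h2 := hinv g hg
    rw [← h1.eq, mul_inv_cancel_right] at h2
    have h3 : g * 1 = g * g := by rw [mul_one, ← pow_two]; exact h2
    exact (mul_left_cancel h3).symm

section Mathieu

open Cfsg.Agent.SporadicA.GolayBase Cfsg.Agent.SporadicA.GolayPerm Cfsg.Agent.SporadicStructure.M24El
open Cfsg.Agent.H921.Spor.M24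

/-- the checks -/
def chkN (a b x : ℕ) : Bool :=
  ok a && ok b && ok x && Nat.beq (ppow a 3) idP && ((List.range 24).any fun i => !Nat.beq (papp a i) i) &&
  Nat.beq (pcomp x a) (pcomp b x) && Nat.beq (pcomp a b) (pcomp b a) && Nat.beq (pcomp x b) (pcomp (pcomp a b) x) &&
  Nat.beq (ppow x 8) idP

theorem frb_of_chkN {a b x : ℕ} (h : chkN a b x = true) {K : Subgroup (Equiv.Perm GolayPt)}
    (haK : (el a : Equiv.Perm GolayPt) ∈ K) (hbK : (el b : Equiv.Perm GolayPt) ∈ K)
    (hxK : (el x : Equiv.Perm GolayPt) ∈ K) : Frb' K 3 8 := by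
  unfold chkN at h
  simp only [Bool.and_eq_true] at h
  obtain ⟨⟨⟨⟨⟨⟨⟨⟨ha, hb⟩, hx⟩, ha3⟩, ha1⟩, hxa⟩, hab⟩, hxb⟩, hx8⟩ := h
  have ha3' : el a ^ 3 = 1 := by rw [← el_ppow ha, Nat.eq_of_beq_eq_true ha3, el_idP]
  have hx8' : el x ^ 8 = 1 := by rw [← el_ppow hx, Nat.eq_of_beq_eq_true hx8, el_idP]
  have ha1' : el a ≠ 1 := by
    rw [List.any_eq_true] at ha1
    obtain ⟨i, hi, h1⟩ := ha1
    refine el_ne_one ha (List.mem_range.1 hi) ?_
    intro h2
    rw [h2] at h1
    simp at h1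
  have hxa' : el x * el a = el b * el x := by
    rw [← el_pcomp hx ha, Nat.eq_of_beq_eq_true hxa, el_pcomp hb hx]
  have hab' : el a * el b = el b * el a := by
    rw [← el_pcomp ha hb, Nat.eq_of_beq_eq_true hab, el_pcomp hb ha]
  have hxb' : el x * el b = el a * el b * el x := by
    rw [← el_pcomp hx hb, Nat.eq_of_beq_eq_true hxb, el_pcomp (ok_pcomp ha hb) hx, el_pcomp ha hb]
  have key : ∀ {y z : M24} (hy : (y : Equiv.Perm GolayPt) ∈ K) (hz : (z : Equiv.Perm GolayPt) ∈ K), y = z →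
      (⟨_, hy⟩ : K) = ⟨_, hz⟩ := by
    intro y z hy hz h
    subst h
    rfl
  refine frb_nine (a := (⟨_, haK⟩ : K)) (b := (⟨_, hbK⟩ : K)) (x := (⟨_, hxK⟩ : K)) ?_ ?_ ?_ ?_ ?_ ?_
  · apply Subtype.ext
    have := congrArg (fun z : M24 => (z : Equiv.Perm GolayPt)) ha3'
    simpa using this
  · intro h0
    apply ha1'
    apply Subtype.ext
    exact congrArg (fun z : K => (z : Equiv.Perm GolayPt)) h0
  · rw [mul_inv_eq_iff_eq_mul]
    apply Subtype.ext
    have := congrArg (fun z : M24 => (z : Equiv.Perm GolayPt)) hxa'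
    simpa using this
  · apply Subtype.ext
    have := congrArg (fun z : M24 => (z : Equiv.Perm GolayPt)) hab'
    simpa using this
  · rw [mul_inv_eq_iff_eq_mul]
    apply Subtype.ext
    have := congrArg (fun z : M24 => (z : Equiv.Perm GolayPt)) hxb'
    simpa using this
  · apply Subtype.ext
    have := congrArg (fun z : M24 => (z : Equiv.Perm GolayPt)) hx8'
    simpa using this

theorem frb_M11 : Frb' Cfsg.Spor.M11 3 8 :=
  frb_of_chkN (a := 901278622816567507639442004315844736) (b := 438393639081142986163718963584927232)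
    (x := 222803950135927914560252560635343424) (by decide +kernel) (mem_M11 (by decide +kernel))
    (mem_M11 (by decide +kernel)) (mem_M11 (by decide +kernel))

end Mathieu

/-- `M11` has a Frobenius group `3² : 8`. -/
theorem frb_m11_eight {X : Type u} [Group X] (h : Cfsg.Spor.IsoM11 X) : Frb' X 3 8 := by
  obtain ⟨e⟩ := h
  obtain ⟨A, x, h1, h2, h3, h4, h5⟩ := frb_M11
  refine ⟨A.map e.symm.toMonoidHom, e.symm x, h1.map _, ?_, ?_, ?_, ?_⟩
  · rwa [ne_eq, Subgroup.map_eq_bot_iff_of_injective _ e.symm.injective]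
  · rw [MulEquiv.orderOf_eq, h3]
  · rintro _ ⟨a, ha, rfl⟩
    exact ⟨x * a * x⁻¹, h4 a ha, by simp⟩
  · rintro i hi hi8 _ ⟨a, ha, rfl⟩ hc
    have hc' : a * x ^ i = x ^ i * a := by
      apply e.symm.injective
      simpa using hc
    have := h5 i hi hi8 a ha hc'
    subst this
    simp

/-! ### `M22` -/

/-- A criterion. -/
theorem no_fifteen_of {G : Type*} [Group G] [Finite G] (h25 : ¬ 25 ∣ Nat.card G) {x : G} (hx : orderOf x = 5)
    (hle : Nat.card {z : G // ∃ j ∈ Finset.Ico 1 5, z * x = x ^ j * z} ≤ 20)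
    {a t : G} (ha : orderOf a = 5) (ht : orderOf t = 4) (hta : t * a * t⁻¹ ∈ zpowers a) :
    ¬ ∃ g : G, orderOf g = 15 := by
  rintro ⟨g, hg⟩
  have hp5 : Fact (Nat.Prime 5) := ⟨by norm_num⟩
  -- the normalizers are conjugate
  have hsyl : ∀ y : G, orderOf y = 5 → ∃ P : Sylow 5 G, (P : Subgroup G) = zpowers y := by
    intro y hy
    have h1 : IsPGroup 5 (zpowers y) := IsPGroup.of_card (n := 1) (by rw [Nat.card_zpowers, hy, pow_one])
    obtain ⟨P, hP⟩ := h1.exists_le_sylow
    refine ⟨P, ?_⟩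
    obtain ⟨n, hn⟩ := (IsPGroup.iff_card).1 P.isPGroup'
    have hn1 : n ≤ 1 := by
      by_contra hn1
      apply h25
      have h2 : 5 ^ n ∣ Nat.card G := by rw [← hn]; exact Subgroup.card_subgroup_dvd_card _
      exact dvd_trans (pow_dvd_pow 5 (show 2 ≤ n by omega)) h2
    have h3 : Nat.card (P : Subgroup G) ≤ Nat.card (zpowers y) := by
      rw [Nat.card_zpowers, hy, hn]
      calc 5 ^ n ≤ 5 ^ 1 := Nat.pow_le_pow_right (by norm_num) hn1
        _ = 5 := by norm_num
    exact (Subgroup.eq_of_le_of_card_ge hP h3).symm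
  have hconj : ∀ y : G, orderOf y = 5 → ∃ c : G, ∀ w, w ∈ zpowers y ↔ c * w * c⁻¹ ∈ zpowers x := by
    intro y hy
    obtain ⟨P, hP⟩ := hsyl y hy
    obtain ⟨Q, hQ⟩ := hsyl x hx
    obtain ⟨c, hc⟩ := MulAction.exists_smul_eq G P Q
    refine ⟨c, fun w => ?_⟩
    rw [← hP, ← hQ, ← hc]
    rw [Sylow.coe_subgroup_smul, Subgroup.mem_pointwise_smul_iff_inv_smul_mem]
    simp [MulAut.smul_def, mul_assoc]
  -- the normalizer
  have hN : ∀ z : G, z * x * z⁻¹ ∈ zpowers x → z ∈ normalizer (zpowers x : Set G) := by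
    intro z hz
    have h1 : (zpowers x).map (MulAut.conj z).toMonoidHom = zpowers x := by
      refine Subgroup.eq_of_le_of_card_ge ?_ ?_
      · rintro _ ⟨w, hw, rfl⟩
        obtain ⟨k, rfl⟩ := mem_zpowers_iff.1 hw
        rw [map_zpow]
        exact zpow_mem (by simpa using hz) k
      · rw [Subgroup.card_map_of_injective (MulAut.conj z).injective]
    rw [Subgroup.mem_normalizer_iff]
    intro w
    constructor
    · intro hw
      have := Subgroup.mem_map_of_mem (MulAut.conj z).toMonoidHom hw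
      rw [h1] at this
      simpa using this
    · intro hw
      rw [← h1] at hw
      obtain ⟨v, hv, hvw⟩ := hw
      have : z * v * z⁻¹ = z * w * z⁻¹ := by simpa using hvw
      have h2 : v = w := by
        have := mul_right_cancel this
        exact mul_left_cancel this
      rw [← h2]; exact hv
  have hgen : ∀ y : G, orderOf y = 5 → ∀ s : G, s * y * s⁻¹ ∈ zpowers y → ∃ c : G,
      c * s * c⁻¹ ∈ normalizer (zpowers x : Set G) := by
    intro y hy s hs
    obtain ⟨c, hc⟩ := hconj y hy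
    refine ⟨c, hN _ ?_⟩
    -- x = c w c⁻¹ with w ∈ zpowers y
    have h1 : c⁻¹ * x * c ∈ zpowers y := by
      rw [hc]
      have : c * (c⁻¹ * x * c) * c⁻¹ = x := by group
      rw [this]
      exact mem_zpowers x
    obtain ⟨k, hk⟩ := mem_zpowers_iff.1 h1
    have h2 : c * s * c⁻¹ * x * (c * s * c⁻¹)⁻¹ = c * (s * y * s⁻¹) ^ k * c⁻¹ := by
      rw [conj_zpow, hk]
      group
    rw [h2, ← hc]
    exact zpow_mem hs k
  have hcardN : Nat.card (normalizer (zpowers x : Set G)) ≤ 20 := by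
    refine le_trans ?_ hle
    have hz : ∀ z : normalizer (zpowers x : Set G), ∃ j ∈ Finset.Ico 1 5, (z : G) * x = x ^ j * z := by
      intro z
      have h1 := (Subgroup.mem_normalizer_iff.1 z.2 x).1 (mem_zpowers x)
      obtain ⟨j, hj⟩ := (mem_powers_iff_mem_zpowers).2 h1
      refine ⟨j % 5, ?_, ?_⟩
      · rw [Finset.mem_Ico]
        refine ⟨?_, Nat.mod_lt _ (by norm_num)⟩
        by_contra h0
        have h2 : j % 5 = 0 := by omega
        have h3 : x ^ j = 1 := by
          rw [← orderOf_dvd_iff_pow_eq_one, hx]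
          exact Nat.dvd_of_mod_eq_zero h2
        have h4 : (z : G) * x * (z : G)⁻¹ = 1 := by rw [← hj]; exact h3
        have h5 : x = 1 := by
          have h6 : (z : G) * x = z := by
            rw [mul_inv_eq_one] at h4
            exact h4
          exact mul_eq_left.1 h6
        rw [h5, orderOf_one] at hx
        omega
      · have h2 : x ^ (j % 5) = x ^ j := by
          conv_rhs => rw [← Nat.div_add_mod j 5, pow_add, pow_mul, ← hx, pow_orderOf_eq_one, one_pow, one_mul]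
          rw [hx]
        rw [h2, ← mul_inv_eq_iff_eq_mul]
        exact hj.symm
    refine Nat.card_le_card_of_injective
      (fun z : normalizer (zpowers x : Set G) => (⟨(z : G), hz z⟩ : {z : G // ∃ j ∈ Finset.Ico 1 5, z * x = x ^ j * z})) ?_
    intro z w h
    exact Subtype.ext (congrArg (fun q : {z : G // ∃ j ∈ Finset.Ico 1 5, z * x = x ^ j * z} => (q : G)) h)
  have o3 : orderOf (g ^ 3) = 5 := by
    rw [orderOf_pow_of_dvd (by norm_num) (by rw [hg]; norm_num), hg]
  obtain ⟨c, hc⟩ := hgen (g ^ 3) o3 g (by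
    have : g * g ^ 3 * g⁻¹ = g ^ 3 := by group
    rw [this]
    exact mem_zpowers _)
  obtain ⟨d, hd⟩ := hgen a ha t hta
  have d1 : 15 ∣ Nat.card (normalizer (zpowers x : Set G)) := by
    have h := orderOf_dvd_natCard (⟨_, hc⟩ : normalizer (zpowers x : Set G))
    rw [Subgroup.orderOf_mk] at h
    have h2 : orderOf (c * g * c⁻¹) = orderOf g := by
      have := orderOf_injective (MulAut.conj c).toMonoidHom (MulAut.conj c).injective g
      simpa using this
    rwa [h2, hg] at h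
  have d2 : 4 ∣ Nat.card (normalizer (zpowers x : Set G)) := by
    have h := orderOf_dvd_natCard (⟨_, hd⟩ : normalizer (zpowers x : Set G))
    rw [Subgroup.orderOf_mk] at h
    have h2 : orderOf (d * t * d⁻¹) = orderOf t := by
      have := orderOf_injective (MulAut.conj d).toMonoidHom (MulAut.conj d).injective t
      simpa using this
    rwa [h2, ht] at h
  have h0 : 0 < Nat.card (normalizer (zpowers x : Set G)) := Nat.card_pos
  omega

theorem m22_fifteen' : ¬ ∃ x : Cfsg.Spor.M22, orderOf x = 15 := by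
  have hc : Nat.card Cfsg.Spor.M22 = 443520 := Cfsg.Agent.H729.M22Deg.card_M22
  have hfin : Finite Cfsg.Spor.M22 := Nat.finite_of_card_ne_zero (by rw [hc]; norm_num)
  obtain ⟨x, hx, hle⟩ := Cfsg.Agent.H729.M22Deg.exists_five
  obtain ⟨a, t, k, ha, ht, hk, -⟩ := Cfsg.Agent.H61.SpAlt.fb_M22_five
  exact no_fifteen_of (by rw [hc]; norm_num) hx hle ha ht (by rw [hk]; exact Subgroup.npow_mem_zpowers a k)

/-- `M22` has no elements of order fifteen. -/
theorem m22_fifteen {X : Type u} [Group X] (h : Cfsg.Spor.IsoM22 X) : ¬ ∃ x : X, orderOf x = 15 := by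
  obtain ⟨e⟩ := h
  rintro ⟨x, hx⟩
  exact m22_fifteen' ⟨e x, by rw [MulEquiv.orderOf_eq, hx]⟩

end Cfsg.Agent.H998.SpSmallF
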