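import Cfsg.Agent.H403.LinTwo
import Cfsg.Agent.H403.LinChar
import Cfsg.Agent.H403.SporOrd
import Cfsg.Agent.CoThreeStd.MTwelveCent
import Cfsg.Agent.H998.SpAlt.Pull

/-!
# S3666, the case `PSU(5, 2)` (helper998)

Light version: the order table and the classification (for the group of order 95040) are hypotheses.
-/

set_option autoImplicit false

namespace Cfsg.Agent.H998.SpUFive

open Cfsg Subgroup Cfsg.Agent.H998.SpAlt Cfsg.Agent.OrdDiv Cfsg.Agent.H403 Cfsg.Agent.H403.NumTop

universe u v w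

/-- the primes of `PSU(5, 2)` -/
theorem u52_prime {L : Type v} [Group L] [Finite L] {F : Type u} [Field F] [Fintype F] (hF : Fintype.card F = 4)
    (hL : IsL L false 5 2 F) {r : ℕ} (hr : r.Prime) (hg : ∃ g : L, orderOf g = r) : r ∈ [2, 3, 5, 11] := by
  have hF' : Fintype.card F = 2 ^ (cond false 0 1 + 1) := by simpa using hF
  by_cases hr2 : r ∣ 2
  · rw [(Nat.prime_dvd_prime_iff_eq hr Nat.prime_two).1 hr2]
    simp
  · obtain ⟨h1, h2⟩ := (hL.lin (E := AlgebraicClosure F) hF' (by norm_num)).ord_le hF' (by norm_num) hr hr2 hg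
    have h3 : r ∣ AA false (orderOf ((xv false 2 : ℤ) : ZMod r)) 2 :=
      (dvd_AA_iff (by norm_num)).2 (pow_orderOf_eq_one _)
    generalize orderOf ((xv false 2 : ℤ) : ZMod r) = j at h1 h2 h3
    have key : ∀ N : ℕ, r ∣ N → N ∣ 3 * 3 * 5 * 11 → r ∈ [2, 3, 5, 11] := by
      intro N h4 h5
      have h6 := h4.trans h5
      have h3' : Nat.Prime 3 := by norm_num
      have h5' : Nat.Prime 5 := by norm_num
      have h11 : Nat.Prime 11 := by norm_num
      rcases hr.dvd_mul.1 h6 with h6 | h6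
      · rcases hr.dvd_mul.1 h6 with h6 | h6
        · rcases hr.dvd_mul.1 h6 with h6 | h6
          · rw [(Nat.prime_dvd_prime_iff_eq hr h3').1 h6]; simp
          · rw [(Nat.prime_dvd_prime_iff_eq hr h3').1 h6]; simp
        · rw [(Nat.prime_dvd_prime_iff_eq hr h5').1 h6]; simp
      · rw [(Nat.prime_dvd_prime_iff_eq hr h11).1 h6]; simp
    interval_cases j
    · exact key _ h3 (by decide)
    · exact key _ h3 (by decide)
    · exact key _ h3 (by decide)
    · exact key _ h3 (by decide)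
    · exact key _ h3 (by decide)

/-- no elements of order ten -/
theorem u52_ten {L : Type v} [Group L] [Finite L] {F : Type u} [Field F] [Fintype F] (hF : Fintype.card F = 4)
    (hL : IsL L false 5 2 F) : ¬ ∃ g : L, orderOf g = 10 := by
  have hF' : Fintype.card F = 2 ^ (cond false 0 1 + 1) := by simpa using hF
  refine (hL.lin (E := AlgebraicClosure F) hF' (by norm_num)).not_two hF' (by norm_num) (i := 4) (by decide) (r := 5)
    (by norm_num) ?_
  have : ((xv false 2 : ℤ) : ZMod 5) = 3 := by decide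
  rw [this]
  refine NumTop.orderOf_eq_of (by norm_num) (by decide) fun d hd hd1 => ?_
  have hd6 : d ≤ 4 := Nat.le_of_dvd (by norm_num) hd
  have hdp : 0 < d := Nat.pos_of_dvd_of_pos hd (by norm_num)
  interval_cases d <;> first | omega | (exfalso; revert hd1; decide)

theorem m12_ten {X : Type*} [Group X] (h : Spor.IsoM12 X) : ∃ x : X, orderOf x = 10 := by
  obtain ⟨e⟩ := h
  have := Fact.mk (by norm_num : Nat.Prime 5)
  obtain ⟨z, hz⟩ := exists_prime_orderOf_dvd_card' (G := ↥(centralizer ({Cfsg.Agent.CoThreeStd.MTwelve.y} : Set Spor.M12))) 5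
    (by rw [Cfsg.Agent.CoThreeStd.MTwelve.card_cent_y]; norm_num)
  have hy : orderOf (Cfsg.Agent.CoThreeStd.MTwelve.y : Spor.M12) = 2 :=
    orderOf_eq_prime (by rw [pow_two]; exact Cfsg.Agent.CoThreeStd.MTwelve.y_sq) Cfsg.Agent.CoThreeStd.MTwelve.y_ne_one
  have hz' : orderOf (z : Spor.M12) = 5 := by rw [Subgroup.orderOf_coe, hz]
  have hc : Commute (z : Spor.M12) Cfsg.Agent.CoThreeStd.MTwelve.y := mem_centralizer_singleton_iff.1 z.2
  refine ⟨e.symm ((z : Spor.M12) * Cfsg.Agent.CoThreeStd.MTwelve.y), ?_⟩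
  rw [MulEquiv.orderOf_eq, hc.orderOf_mul_eq_mul_orderOf_of_coprime, hz', hy]
  rw [hz', hy]
  norm_num

/-- `X` is a section of `G` -/
theorem has_of_X {G : Type w} [Group G] [Finite G] {X : Type u} [Group X] (hst : St G X) {m : ℕ}
    (h : ∃ x : X, orderOf x = m) : ∃ g : G, orderOf g = m := by
  obtain ⟨K, hK, S, hS, -, -, ⟨e⟩, -⟩ := hst
  obtain ⟨x, hx⟩ := h
  obtain ⟨g, hg⟩ := QuotientGroup.mk'_surjective K ((e.symm x : ↥S) : G ⧸ K)
  have h1 : orderOf ((e.symm x : ↥S) : G ⧸ K) = m := by rw [Subgroup.orderOf_coe, MulEquiv.orderOf_eq, hx]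
  exact Has.of_map (QuotientGroup.mk' K) g hg (dvd_of_eq h1.symm)

/-- the order of a sporadic group with all prime divisors in `{2, 3, 5, 11}` -/
theorem card_of_primes {X : Type u} [Group X] (hsp : Cfsg.IsSporadic X)
    (hp : ∀ r : ℕ, r.Prime → r ∣ Nat.card X → r ∈ [2, 3, 5, 11]) : Cfsg.IsM11 X ∨ Nat.card X = 95040 := by
  have h7 : ¬ 7 ∣ Nat.card X := fun h => by
    have := hp 7 (by norm_num) h
    simp at this
  have h17 : ¬ 17 ∣ Nat.card X := fun h => by
    have := hp 17 (by norm_num) h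
    simp at this
  unfold Cfsg.IsSporadic at hsp
  have key : ∀ N : ℕ, IsSimpleGroup X ∧ Nat.card X = N → (7 ∣ N ∨ 17 ∣ N) → Cfsg.IsM11 X ∨ Nat.card X = 95040 := by
    rintro N ⟨-, h1⟩ (h2 | h2)
    · exact absurd (h1 ▸ h2) h7
    · exact absurd (h1 ▸ h2) h17
  rcases hsp with h | h | h | h | h | h | h | h | h | h | h | h | h | h | h | h | h | h | h | h | h | h | h | h | h | h
  · exact Or.inl h
  · exact Or.inr h.2
  all_goals exact key _ h (by norm_num)

/-- **S3666, `PSU(5, 2)`.** -/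
theorem u_five_of {L : Type v} [Group L] [Finite L] {F : Type*} [Field F] [Fintype F] (hF : Fintype.card F = 4)
    (hL : IsL L false 5 2 F) {G : Type w} [Group G] [Finite G]
    (h : Set.range (orderOf : G → ℕ) = Set.range (orderOf : L → ℕ)) {X : Type u} [Group X] (hsp : Cfsg.IsSporadic X)
    (hst : St G X) (T : OrderTable.{u}) (hk : IsKnownSimple' X) : Cfsg.IsM11 X := by
  have hiso : ∀ m, (∃ g : G, orderOf g = m) ↔ ∃ g : L, orderOf g = m := by
    intro m
    have : m ∈ Set.range (orderOf : G → ℕ) ↔ m ∈ Set.range (orderOf : L → ℕ) := by rw [h]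
    exact this
  have hp : ∀ r : ℕ, r.Prime → r ∣ Nat.card X → r ∈ [2, 3, 5, 11] := by
    intro r hr hd
    have := Fact.mk hr
    have hfin : Finite X := by
      obtain ⟨K, hK, S, hS, -, -, ⟨e⟩, -⟩ := hst
      exact Finite.of_equiv _ e.toEquiv
    obtain ⟨x, hx⟩ := exists_prime_orderOf_dvd_card' r hd
    exact u52_prime hF hL hr ((hiso r).1 (has_of_X hst ⟨x, hx⟩))
  rcases card_of_primes hsp hp with h1 | h1
  · exact h1
  · exfalso
    have hna : ¬ ∀ a b : X, a * b = b * a := by
      intro hc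
      obtain ⟨K, hK, S, hS, -, hC, ⟨e⟩, -⟩ := hst
      have h2 : S ≤ centralizer (S : Set (G ⧸ K)) := by
        intro s hs
        rw [mem_centralizer_iff]
        intro t ht
        have h3 := hc (e ⟨t, ht⟩) (e ⟨s, hs⟩)
        rw [← map_mul, ← map_mul] at h3
        exact congrArg Subtype.val (e.injective h3)
      rw [hC, le_bot_iff] at h2
      have h4 : Nat.card ↥S = 1 := by rw [h2]; exact Subgroup.card_bot
      rw [Nat.card_congr e.toEquiv, h1] at h4
      omega
    have hR : Real Grp.m12 X := real_of_card T hk hna (x := (.m12, 95040, [(2,6),(3,3),(5,1),(11,1)])) (by decide) h1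
    have h2 : Spor.IsoM12 X := hR
    exact u52_ten hF hL ((hiso 10).1 (has_of_X hst (m12_ten h2)))

end Cfsg.Agent.H998.SpUFive
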